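import Cfsg.Agent.Lib.ExtClosed.Sub
import Cfsg.Agent.Lib.Components.ZStarIso
import Cfsg.Agent.Lib.Signalizer.CompleteTwo
import Cfsg.Agent.S0205

/-!
# The case of rank at least three: signalizer functors
-/

set_option autoImplicit false
set_option linter.unusedVariables false
set_option linter.style.haveILetI false
set_option linter.unusedSectionVars false
set_option linter.deprecated false

open Cfsg
open scoped Pointwise

namespace Cfsg.Agent.Lib.ExtClosed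

universe u

/-- A refinement of `mem_of_odd_of_two`. -/
lemma mem_of_two_two_odd {Y : Type u} [Group Y] [Finite Y] (R : Subgroup Y) [hR : R.Normal] {u v x : Y}
    (hu : ∃ k : ℕ, u ^ 2 ^ k = 1) (hv : ∃ k : ℕ, v ^ 2 ^ k = 1) (hc : u * v * u⁻¹ * v⁻¹ ∈ R)
    (ho : Odd (orderOf x)) (e : QuotientGroup.mk' R (u * v⁻¹) = QuotientGroup.mk' R x) : u * v⁻¹ ∈ R := by
  rw [← QuotientGroup.eq_one_iff]
  set π := QuotientGroup.mk' R with hπ
  have hc' : π u * π v = π v * π u := by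
    have h1 : π (u * v * u⁻¹ * v⁻¹) = 1 := (QuotientGroup.eq_one_iff _).2 hc
    simp only [map_mul, map_inv] at h1
    have h2 : π u * π v * (π u)⁻¹ = π v := mul_inv_eq_one.1 h1
    exact (mul_inv_eq_iff_eq_mul.1 h2)
  have hcomm : Commute (π u) (π v) := hc'
  obtain ⟨k, hk⟩ := hu
  obtain ⟨m, hm⟩ := hv
  show π (u * v⁻¹) = 1
  apply eq_one_of_two_of_odd
  · refine ⟨k + m, ?_⟩
    have h1 : π (u * v⁻¹) = π u * (π v)⁻¹ := by simp
    rw [h1, (hcomm.inv_right).mul_pow]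
    have h3 : (π u) ^ 2 ^ (k + m) = 1 := by
      rw [pow_add, pow_mul, ← map_pow, hk, map_one, one_pow]
    have h4 : ((π v)⁻¹) ^ 2 ^ (k + m) = 1 := by
      rw [inv_pow, inv_eq_one, add_comm, pow_add, pow_mul, ← map_pow, hm, map_one, one_pow]
    rw [h3, h4, one_mul]
  · rw [e]
    exact ho.of_dvd_nat (orderOf_map_dvd _ _)

/-- The abstract balance lemma. -/
theorem balance_core {Y : Type u} [Group Y] [Finite Y] (Δ : Set Y)
    (hconj : ∀ l ∈ Δ, ∀ g : Y, g * l * g⁻¹ ∈ Δ) (h2 : ∀ l ∈ Δ, ∃ k : ℕ, l ^ 2 ^ k = 1)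
    (hc : ∀ l ∈ Δ, ∀ l' ∈ Δ, l * l' * l⁻¹ * l'⁻¹ ∈ oddCore Y) {a : Y} (ha : a ∈ Δ) (haa : a * a = 1)
    (B : Subgroup Y) (hBn : ∀ c : Y, c * a = a * c → ∀ d ∈ B, c * d * c⁻¹ ∈ B) (hBo : Odd (Nat.card B)) :
    B ≤ oddCore Y := by
  classical
  haveI hRn : (oddCore Y).Normal := Cfsg.Agent.Lib.Basic.PCore.pPrimeCore_normal 2 Y
  set R := oddCore Y with hR
  have hRo : Odd (Nat.card R) := by
    have h2 := Cfsg.Agent.Lib.Components.Transport.coprime_card_pPrimeCore (G := Y) 2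
    exact Nat.coprime_two_right.1 h2
  have hai : a⁻¹ = a := inv_eq_of_mul_eq_one_left haa
  -- elements commuting with `a` modulo `R`
  have hsplit : ∀ z : Y, z * a * z⁻¹ * a⁻¹ ∈ R → ∃ c ∈ R, (c⁻¹ * z) * a = a * (c⁻¹ * z) := by
    intro z hz
    set a' := z * a * z⁻¹ with ha'
    have ha'a' : a' * a' = 1 := by
      have : a' * a' = z * (a * a) * z⁻¹ := by rw [ha']; group
      rw [this, haa]; group
    have hm : a' * a ∈ R := by
      rw [hai] at hz
      exact hz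
    obtain ⟨c, hc1, hc2⟩ := Cfsg.Agent.Lib.Components.ZStarIso.conj_of_odd_mul ha'a' haa (odd_orderOf_of_mem hRo hm)
    refine ⟨c, (Subgroup.zpowers_le.2 hm) hc1, ?_⟩
    have h3 : z * a = a' * z := by rw [ha']; group
    calc c⁻¹ * z * a = c⁻¹ * (z * a) := by group
      _ = c⁻¹ * (a' * z) := by rw [h3]
      _ = c⁻¹ * ((c * a * c⁻¹) * z) := by rw [hc2]
      _ = a * (c⁻¹ * z) := by group
  -- the subgroup `Z`
  set Z : Subgroup Y :=
    { carrier := {g | ∀ l ∈ Δ, g * l * g⁻¹ * l⁻¹ ∈ R}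
      one_mem' := by
        intro l _
        have : (1 : Y) * l * 1⁻¹ * l⁻¹ = 1 := by group
        rw [this]; exact R.one_mem
      mul_mem' := by
        intro g h hg hh l hl
        have h1 : g * h * l * (g * h)⁻¹ * l⁻¹ = g * (h * l * h⁻¹ * l⁻¹) * g⁻¹ * (g * l * g⁻¹ * l⁻¹) := by group
        rw [h1]
        exact R.mul_mem (hRn.conj_mem _ (hh l hl) g) (hg l hl)
      inv_mem' := by
        intro g hg l hl
        have h0 := hg (g⁻¹ * l * g⁻¹⁻¹) (hconj l hl g⁻¹)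
        have h1 : g⁻¹ * l * g⁻¹⁻¹ * l⁻¹ = (g * (g⁻¹ * l * g⁻¹⁻¹) * g⁻¹ * (g⁻¹ * l * g⁻¹⁻¹)⁻¹)⁻¹ := by group
        rw [h1]
        exact R.inv_mem h0 } with hZ
  have hZmem : ∀ g : Y, g ∈ Z ↔ ∀ l ∈ Δ, g * l * g⁻¹ * l⁻¹ ∈ R := fun g => Iff.rfl
  have hZn : Z.Normal := by
    constructor
    intro z hz c
    rw [hZmem] at hz ⊢
    intro l hl
    have h0 := hz (c⁻¹ * l * c⁻¹⁻¹) (hconj l hl c⁻¹)
    have h1 : c * z * c⁻¹ * l * (c * z * c⁻¹)⁻¹ * l⁻¹ =
        c * (z * (c⁻¹ * l * c⁻¹⁻¹) * z⁻¹ * (c⁻¹ * l * c⁻¹⁻¹)⁻¹) * c⁻¹ := by group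
    rw [h1]
    exact hRn.conj_mem _ h0 c
  have hRZ : R ≤ Z := by
    intro r hr
    rw [hZmem]
    intro l hl
    have h1 : r * l * r⁻¹ * l⁻¹ = r * (l * r⁻¹ * l⁻¹) := by group
    rw [h1]
    exact R.mul_mem hr (hRn.conj_mem _ (R.inv_mem hr) l)
  -- Step A
  have hBZ : B ≤ Z := by
    intro d hd
    rw [hZmem]
    intro l hl
    have hla : l * a * l⁻¹ * a⁻¹ ∈ R := hc l hl a ha
    obtain ⟨c, hcR, hcl⟩ := hsplit l hla
    have hx : (c⁻¹ * l) * d * (c⁻¹ * l)⁻¹ ∈ B := hBn _ hcl d hd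
    set x := (c⁻¹ * l) * d * (c⁻¹ * l)⁻¹ * d⁻¹ with hxdef
    have hxB : x ∈ B := B.mul_mem hx (B.inv_mem hd)
    have hxo : Odd (orderOf x) := odd_orderOf_of_mem hBo hxB
    have hv : d * l * d⁻¹ ∈ Δ := hconj l hl d
    have hπc : QuotientGroup.mk' R c = 1 := (QuotientGroup.eq_one_iff c).2 hcR
    have h1 := mem_of_two_two_odd R (h2 l hl) (h2 _ hv) (hc l hl _ hv) hxo (by
      rw [hxdef]
      simp only [map_mul, map_inv, hπc, inv_one, one_mul, mul_inv_rev, inv_inv]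
      group)
    have h3 : d * l * d⁻¹ * l⁻¹ = (l * (d * l * d⁻¹)⁻¹)⁻¹ := by group
    rw [h3]
    exact R.inv_mem h1
  -- Step B
  set T : Subgroup Y := B ⊔ R with hT
  have hTZ : T ≤ Z := sup_le hBZ hRZ
  have hTo : Odd (Nat.card T) := by
    have h1 : Nat.card T = Nat.card R * R.relIndex T := by
      have := Subgroup.card_mul_index (R.subgroupOf T)
      have h3 : Nat.card (R.subgroupOf T) = Nat.card R :=
        Nat.card_congr (Subgroup.subgroupOfEquivOfLe (le_sup_right : R ≤ T)).toEquiv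
      rw [h3] at this
      exact this.symm
    have h4 : R.relIndex T = R.relIndex B := by
      rw [hT]
      exact Subgroup.relIndex_sup_right B R
    rw [h1, h4]
    exact hRo.mul (hBo.of_dvd_nat (Subgroup.relIndex_dvd_card R B))
  have hTn : ∀ z ∈ Z, ∀ t ∈ T, z * t * z⁻¹ ∈ T := by
    intro z hz t ht
    have hz1 := (hZmem z).1 hz a ha
    obtain ⟨c, hcR, hcz⟩ := hsplit z hz1
    have hle : T ≤ T.comap (MulAut.conj z).toMonoidHom := by
      refine sup_le ?_ ?_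
      · intro d hd
        show z * d * z⁻¹ ∈ T
        have h1 : z * d * z⁻¹ = c * ((c⁻¹ * z) * d * (c⁻¹ * z)⁻¹) * c⁻¹ := by group
        rw [h1]
        refine T.mul_mem (T.mul_mem (Subgroup.mem_sup_right hcR) ?_) (Subgroup.mem_sup_right (R.inv_mem hcR))
        exact Subgroup.mem_sup_left (hBn _ hcz d hd)
      · intro r hr
        show z * r * z⁻¹ ∈ T
        exact Subgroup.mem_sup_right (hRn.conj_mem r hr z)
    exact hle ht
  have h5 : T ≤ OC Z := le_OC hTZ hTo hTn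
  have h6 : OC Z ≤ oddCore Y := OC_le_oddCore (Y := Z)
  exact (le_sup_left.trans h5).trans h6

variable {X : Type u} [Group X] [Finite X] {D : Set X}

/-- The odd core of a centralizer, conjugated. -/
lemma OC_conj_conj {a g x : X} (hx : x ∈ OC (Subgroup.centralizer ({a} : Set X))) :
    g * x * g⁻¹ ∈ OC (Subgroup.centralizer ({g * a * g⁻¹} : Set X)) := by
  set R : Subgroup X := (OC (Subgroup.centralizer ({a} : Set X))).map (MulAut.conj g).toMonoidHom with hR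
  have hconjC : ∀ y, y ∈ Subgroup.centralizer ({g * a * g⁻¹} : Set X) →
      g⁻¹ * y * g ∈ Subgroup.centralizer ({a} : Set X) := by
    intro y hy
    rw [Subgroup.mem_centralizer_singleton_iff] at hy ⊢
    calc g⁻¹ * y * g * a = g⁻¹ * (y * (g * a * g⁻¹)) * g := by group
      _ = g⁻¹ * ((g * a * g⁻¹) * y) * g := by rw [hy]
      _ = a * (g⁻¹ * y * g) := by group
  have h1 : R ≤ OC (Subgroup.centralizer ({g * a * g⁻¹} : Set X)) := by
    apply le_OC
    · rintro _ ⟨r, hr, rfl⟩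
      have h2 := OC_le _ hr
      rw [Subgroup.mem_centralizer_singleton_iff] at h2 ⊢
      show g * r * g⁻¹ * (g * a * g⁻¹) = (g * a * g⁻¹) * (g * r * g⁻¹)
      calc g * r * g⁻¹ * (g * a * g⁻¹) = g * (r * a) * g⁻¹ := by group
        _ = g * (a * r) * g⁻¹ := by rw [h2]
        _ = _ := by group
    · rw [hR, Subgroup.card_map_of_injective (MulAut.conj g).injective]
      exact OC_card _
    · rintro y hy _ ⟨r, hr, rfl⟩
      refine ⟨(g⁻¹ * y * g) * r * (g⁻¹ * y * g)⁻¹, OC_conj _ (hconjC y hy) hr, ?_⟩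
      show g * ((g⁻¹ * y * g) * r * (g⁻¹ * y * g)⁻¹) * g⁻¹ = y * (g * r * g⁻¹) * y⁻¹
      group
  exact h1 ⟨x, hx, rfl⟩

/-- Balance in `D`. -/
theorem Hyp.balance (hD : Hyp D) {a b : X} (ha : a ∈ D) (hb : b ∈ D) (haa : a * a = 1) (hab : a * b = b * a)
    (hIH : Concl (Cfsg.Agent.Lib.ExtClosed.restr D (Subgroup.centralizer ({b} : Set X)))) :
    OC (Subgroup.centralizer ({a} : Set X)) ⊓ Subgroup.centralizer ({b} : Set X) ≤
      OC (Subgroup.centralizer ({b} : Set X)) := by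
  classical
  set Cb := Subgroup.centralizer ({b} : Set X) with hCb
  have haC : a ∈ Cb := Subgroup.mem_centralizer_singleton_iff.2 hab
  have hR := hD.restr Cb
  set B : Subgroup Cb := (OC (Subgroup.centralizer ({a} : Set X))).comap Cb.subtype with hB
  have hBo : Odd (Nat.card B) := by
    have h1 : B.map Cb.subtype ≤ OC (Subgroup.centralizer ({a} : Set X)) := by
      rintro _ ⟨x, hx, rfl⟩
      exact hx
    have h2 : Nat.card (B.map Cb.subtype) = Nat.card B := Subgroup.card_map_of_injective Cb.subtype_injective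
    rw [← h2]
    exact (OC_card (Subgroup.centralizer ({a} : Set X))).of_dvd_nat (Subgroup.card_dvd_of_le h1)
  have hle := balance_core (Cfsg.Agent.Lib.ExtClosed.restr D Cb) hR.conj_mem hR.two hIH (a := ⟨a, haC⟩) ha (Subtype.ext haa) B
    (fun c hc d hd => by
      show (c : X) * (d : X) * (c : X)⁻¹ ∈ OC (Subgroup.centralizer ({a} : Set X))
      apply OC_conj _ _ hd
      rw [Subgroup.mem_centralizer_singleton_iff]
      exact congrArg Subtype.val hc) hBo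
  rintro x ⟨hx1, hx2⟩
  exact ⟨⟨x, hx2⟩, hle hx1, rfl⟩

/-- The involutions of `Hs S` with `1`. -/
def Hyp.Om (hD : Hyp D) (S : Sylow 2 X) : Subgroup X where
  carrier := {a | a ∈ hD.Hs S ∧ a ^ 2 = 1}
  one_mem' := ⟨Subgroup.one_mem _, by simp⟩
  mul_mem' := by
    rintro a b ⟨ha, ha2⟩ ⟨hb, hb2⟩
    refine ⟨Subgroup.mul_mem _ ha hb, ?_⟩
    have hc : Commute a b := hD.HP_comm _ a ha b hb
    rw [hc.mul_pow, ha2, hb2, one_mul]
  inv_mem' := by
    rintro a ⟨ha, ha2⟩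
    exact ⟨Subgroup.inv_mem _ ha, by rw [inv_pow, ha2, inv_one]⟩

lemma Hyp.mem_Om (hD : Hyp D) {S : Sylow 2 X} {a : X} : a ∈ hD.Om S ↔ a ∈ hD.Hs S ∧ a ^ 2 = 1 := Iff.rfl

lemma Hyp.Om_elem (hD : Hyp D) (S : Sylow 2 X) : IsElementaryAbelian 2 (hD.Om S) := by
  refine ⟨⟨⟨fun x y => Subtype.ext ?_⟩⟩, fun a ha => ha.2⟩
  exact hD.HP_comm _ _ x.2.1 _ y.2.1

lemma Hyp.orderOf_of_Om (hD : Hyp D) {S : Sylow 2 X} {a : X} (ha : a ∈ hD.Om S) (ha1 : a ≠ 1) : orderOf a = 2 :=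
  orderOf_eq_prime ha.2 ha1

lemma Hyp.D_of_Om (hD : Hyp D) {S : Sylow 2 X} {a : X} (ha : a ∈ hD.Om S) (ha1 : a ≠ 1) : a ∈ D :=
  hD.HP_D _ a ha.1 ha1

/-- Three elements give two different nontrivial elements. -/
lemma exists_two_ne {E : Subgroup X} (h : 3 ≤ Nat.card E) : ∃ x ∈ E, ∃ y ∈ E, x ≠ 1 ∧ y ≠ 1 ∧ x ≠ y := by
  classical
  haveI := Fintype.ofFinite E
  rw [Nat.card_eq_fintype_card] at h
  obtain ⟨a, b, c, hab, hac, hbc⟩ := Fintype.two_lt_card_iff.1 (by omega : 2 < Fintype.card E)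
  have hne : ∀ {p q : E}, p ≠ q → (p : X) ≠ q := fun h1 h2 => h1 (Subtype.ext h2)
  by_cases ha : (a : X) = 1
  · refine ⟨b, b.2, c, c.2, fun hb => hne hab (ha.trans hb.symm), fun hc => hne hac (ha.trans hc.symm), hne hbc⟩
  by_cases hb : (b : X) = 1
  · refine ⟨a, a.2, c, c.2, ha, fun hc => hne hbc (hb.trans hc.symm), hne hac⟩
  · exact ⟨a, a.2, b, b.2, ha, hb, hne hab⟩

/-- The rank `≥ 3` step. -/
theorem concl_of_rank_three (hD : Hyp D) (S : Sylow 2 X) (hE8 : 8 ≤ Nat.card (hD.Om S))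
    (hIH : ∀ x ∈ D, orderOf x = 2 → Concl (restr D (Subgroup.centralizer ({x} : Set X)))) : Concl D := by
  classical
  haveI : Fact (Nat.Prime 2) := ⟨Nat.prime_two⟩
  set E := hD.Om S with hE
  set H := hD.Hs S with hH
  set θ : X → Subgroup X := fun a => OC (Subgroup.centralizer ({a} : Set X)) with hθdef
  have hEH : ∀ a ∈ E, a ∈ H := fun a ha => ha.1
  have hEa : ∀ a ∈ E, a ≠ 1 → a ∈ D ∧ orderOf a = 2 := fun a ha h1 =>
    ⟨hD.D_of_Om ha h1, hD.orderOf_of_Om ha h1⟩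
  have hEc : ∀ a ∈ E, ∀ b ∈ E, a * b = b * a := fun a ha b hb => hD.HP_comm _ a ha.1 b hb.1
  have hθ : IsSolvableSignalizerFunctor 2 E θ := by
    refine ⟨⟨?_, ?_, ?_, ?_⟩, ?_⟩
    · intro a _ _
      exact OC_le _
    · intro a _ _ h
      exact (Nat.not_even_iff_odd.2 (OC_card _)) (even_iff_two_dvd.2 h)
    · intro a ha ha1 b hb x hx
      apply OC_conj _ _ hx
      rw [Subgroup.mem_centralizer_singleton_iff]
      exact hEc b hb a ha
    · intro a ha ha1 b hb hb1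
      obtain ⟨h1, h2⟩ := hEa a ha ha1
      obtain ⟨h3, h4⟩ := hEa b hb hb1
      have haa : a * a = 1 := by rw [← pow_two]; exact ha.2
      exact hD.balance h1 h3 haa (hEc a ha b hb) (hIH b h3 h4)
    · intro a _ _
      exact Cfsg.Agent.S0205.result (OC_card _)
  have hW := Cfsg.Agent.Lib.Signalizer.CompleteTwo.complete_two (hD.Om_elem S) (by simpa using hE8) hθ
  set W := signalizerClosure E θ with hWdef
  have hWodd : Odd (Nat.card W) := Nat.not_even_iff_odd.1 (fun h => hW.2.1 (even_iff_two_dvd.1 h))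
  have hθW : ∀ a ∈ E, a ≠ 1 → θ a ≤ W := fun a ha ha1 =>
    le_iSup (fun a : {a : X // a ∈ E ∧ a ≠ 1} => θ (a : X)) ⟨a, ha, ha1⟩
  -- reaching all `Hs T` by `W`
  have hshare : ∀ {T₁ T₂ : Sylow 2 X} {x' : X}, (∃ m ∈ W, hD.Hs T₁ = H.map (MulAut.conj m).toMonoidHom) →
      x' ∈ hD.Hs T₁ → x' ∈ hD.Hs T₂ → orderOf x' = 2 → ∃ m ∈ W, hD.Hs T₂ = H.map (MulAut.conj m).toMonoidHom := by
    rintro T₁ T₂ x' ⟨m, hm, e⟩ hx1 hx2 hx'2
    rw [e] at hx1
    obtain ⟨x, hxH, hxe⟩ := hx1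
    have hxe' : m * x * m⁻¹ = x' := hxe
    have hx2' : orderOf x = 2 := by
      rw [← hx'2, ← hxe']
      exact (orderOf_injective (MulAut.conj m).toMonoidHom (MulAut.conj m).injective x).symm
    have hx1' : x ≠ 1 := by
      rintro rfl
      simp at hx2'
    have hxE : x ∈ E := ⟨hxH, by rw [← hx2', pow_orderOf_eq_one]⟩
    have hxD := hD.D_of_Om hxE hx1'
    set T₃ : Sylow 2 X := m⁻¹ • T₂ with hT₃
    have hT₃e : hD.Hs T₃ = (hD.Hs T₂).map (MulAut.conj m⁻¹).toMonoidHom := hD.Hs_conj T₂ m⁻¹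
    have hxT₃ : x ∈ hD.Hs T₃ := by
      rw [hT₃e]
      refine ⟨x', hx2, ?_⟩
      show m⁻¹ * x' * m⁻¹⁻¹ = x
      rw [← hxe']; group
    have hsub : ∀ (U : Sylow 2 X), x ∈ hD.Hs U → hD.Hs U ≤ Subgroup.centralizer ({x} : Set X) := by
      intro U hU y hy
      rw [Subgroup.mem_centralizer_singleton_iff]
      exact hD.HP_comm _ y hy x hU
    obtain ⟨r, hr, e2⟩ := hD.conj_of_le S T₃ (hsub S hxH) (hsub T₃ hxT₃) (hIH x hxD hx2')
    refine ⟨m * r, W.mul_mem hm (hθW x hxE hx1' hr), ?_⟩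
    have h3 : hD.Hs T₂ = (hD.Hs T₃).map (MulAut.conj m).toMonoidHom := by
      rw [hT₃e]
      ext y
      constructor
      · intro hy
        exact ⟨m⁻¹ * y * m⁻¹⁻¹, ⟨y, hy, rfl⟩, by
          show m * (m⁻¹ * y * m⁻¹⁻¹) * m⁻¹ = y
          group⟩
      · rintro ⟨_, ⟨z, hz, rfl⟩, rfl⟩
        have : m * (m⁻¹ * z * m⁻¹⁻¹) * m⁻¹ = z := by group
        show m * (m⁻¹ * z * m⁻¹⁻¹) * m⁻¹ ∈ hD.Hs T₂
        rw [this]
        exact hz
    rw [h3, e2]
    ext y
    simp only [Subgroup.mem_map]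
    constructor
    · rintro ⟨_, ⟨z, hz, rfl⟩, rfl⟩
      exact ⟨z, hz, by simp [mul_assoc]⟩
    · rintro ⟨z, hz, rfl⟩
      exact ⟨_, ⟨z, hz, rfl⟩, by simp [mul_assoc]⟩
  obtain ⟨x, hx, y, hy, hx1, hy1, hxy⟩ := exists_two_ne (E := E) (by omega)
  have hreach : ∀ T : Sylow 2 X, ∃ m ∈ W, hD.Hs T = H.map (MulAut.conj m).toMonoidHom := by
    intro T
    obtain ⟨g, rfl⟩ := MulAction.exists_smul_eq X S T
    have hb : g * x * g⁻¹ ∈ hD.Hs (g • S) := by
      rw [hD.Hs_conj]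
      exact ⟨x, hx.1, rfl⟩
    have hbord : orderOf (g * x * g⁻¹) = 2 := by
      rw [← hD.orderOf_of_Om hx hx1]
      exact orderOf_injective (MulAut.conj g).toMonoidHom (MulAut.conj g).injective x
    obtain ⟨a, w, S', T', ha1, ha2, haord, hw1, hw2, hword, hb2⟩ :=
      hD.exists_chain S (g • S) hx.1 hy.1 hxy (hD.orderOf_of_Om hx hx1) (hD.orderOf_of_Om hy hy1) hb hbord
    have h0 : ∃ m ∈ W, hD.Hs S = H.map (MulAut.conj m).toMonoidHom := by
      refine ⟨1, W.one_mem, ?_⟩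
      ext y
      constructor
      · intro h
        exact ⟨y, h, by simp⟩
      · rintro ⟨z, hz, rfl⟩
        simpa using hz
    have h1 := hshare h0 ha1 ha2 haord
    have h2 := hshare h1 hw1 hw2 hword
    exact hshare h2 hb2 hb hbord
  -- `W` is normal
  have hNW : ∀ n : X, H.map (MulAut.conj n).toMonoidHom = H → ∀ v ∈ W, n * v * n⁻¹ ∈ W := by
    intro n hn
    have hnE : ∀ a ∈ E, n * a * n⁻¹ ∈ E := by
      intro a ha
      refine ⟨?_, ?_⟩
      · rw [hH] at hn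
        rw [← hn]
        exact ⟨a, ha.1, rfl⟩
      · have h2 : (n * a * n⁻¹) ^ 2 = n * a ^ 2 * n⁻¹ := by rw [conj_pow]
        rw [h2, ha.2]; group
    have hle : W ≤ W.comap (MulAut.conj n).toMonoidHom := by
      refine iSup_le ?_
      rintro ⟨a, ha, ha1⟩ v hv
      show n * v * n⁻¹ ∈ W
      have h2 : n * a * n⁻¹ ≠ 1 := by
        intro h3
        apply ha1
        have : a = n⁻¹ * (n * a * n⁻¹) * n := by group
        rw [this, h3]; group
      exact hθW _ (hnE a ha) h2 (OC_conj_conj hv)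
    exact fun v hv => hle hv
  have hWn : W.Normal := by
    constructor
    intro v hv g
    obtain ⟨m, hm, e⟩ := hreach (g • S)
    rw [hD.Hs_conj] at e
    set n := m⁻¹ * g with hn
    have hne : H.map (MulAut.conj n).toMonoidHom = H := by
      ext y
      constructor
      · rintro ⟨z, hz, rfl⟩
        have h1 : g * z * g⁻¹ ∈ H.map (MulAut.conj m).toMonoidHom := by
          rw [← e]; exact ⟨z, hz, rfl⟩
        obtain ⟨z', hz', e'⟩ := h1
        have e'' : m * z' * m⁻¹ = g * z * g⁻¹ := e'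
        have h2 : n * z * n⁻¹ = z' := by
          rw [hn]
          calc m⁻¹ * g * z * (m⁻¹ * g)⁻¹ = m⁻¹ * (g * z * g⁻¹) * m := by group
            _ = m⁻¹ * (m * z' * m⁻¹) * m := by rw [e'']
            _ = z' := by group
        show n * z * n⁻¹ ∈ H
        rw [h2]; exact hz'
      · intro hy
        have h1 : m * y * m⁻¹ ∈ H.map (MulAut.conj g).toMonoidHom := by
          rw [e]; exact ⟨y, hy, rfl⟩
        obtain ⟨z, hz, e'⟩ := h1
        have e'' : g * z * g⁻¹ = m * y * m⁻¹ := e'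
        refine ⟨z, hz, ?_⟩
        show n * z * n⁻¹ = y
        rw [hn]
        calc m⁻¹ * g * z * (m⁻¹ * g)⁻¹ = m⁻¹ * (g * z * g⁻¹) * m := by group
          _ = m⁻¹ * (m * y * m⁻¹) * m := by rw [e'']
          _ = y := by group
    have h1 := hNW n hne v hv
    have h2 : g * v * g⁻¹ = m * (n * v * n⁻¹) * m⁻¹ := by
      rw [hn]; group
    rw [h2]
    exact W.mul_mem (W.mul_mem hm h1) (W.inv_mem hm)
  have hWO : W ≤ oddCore X := Cfsg.Agent.Lib.Basic.PCore.le_pPrimeCore hWn (Nat.coprime_two_right.2 hWodd)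
  -- conclusion
  haveI hOn : (oddCore X).Normal := Cfsg.Agent.Lib.Basic.PCore.pPrimeCore_normal 2 X
  have hform : ∀ a ∈ D, ∃ m ∈ W, ∃ h ∈ H, a = m * h * m⁻¹ := by
    intro a ha
    obtain ⟨T, hT⟩ := hD.exists_mem_Hs ha
    obtain ⟨m, hm, e⟩ := hreach T
    rw [e] at hT
    obtain ⟨h, hh, e'⟩ := hT
    exact ⟨m, hm, h, hh, e'.symm⟩
  intro a ha b hb
  obtain ⟨m, hm, h, hh, rfl⟩ := hform a ha
  obtain ⟨m', hm', h', hh', rfl⟩ := hform b hb
  rw [← QuotientGroup.eq_one_iff]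
  have hπm : QuotientGroup.mk' (oddCore X) m = 1 := (QuotientGroup.eq_one_iff _).2 (hWO hm)
  have hπm' : QuotientGroup.mk' (oddCore X) m' = 1 := (QuotientGroup.eq_one_iff _).2 (hWO hm')
  have hcomm : QuotientGroup.mk' (oddCore X) h * QuotientGroup.mk' (oddCore X) h' =
      QuotientGroup.mk' (oddCore X) h' * QuotientGroup.mk' (oddCore X) h := by
    rw [← map_mul, ← map_mul, hD.HP_comm _ h hh h' hh']
  show QuotientGroup.mk' (oddCore X) _ = 1
  simp only [map_mul, map_inv, hπm, hπm', inv_one, one_mul, mul_one]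
  rw [hcomm]
  group

end Cfsg.Agent.Lib.ExtClosed
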