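import Mathlib
import Cfsg.Agent.Lib.ExtClosed.RankChar
import Cfsg.Agent.Lib.ExtClosed.RankThree
import Cfsg.Agent.Lib.Components.ZStarMain

/-!
# The rank two case: three conjugate involutions

If `Ω₁(Hs S)` has order `4` and its three involutions are conjugate, `X = ⟨D⟩` and the conclusion holds in all
proper subgroups, then we reach a contradiction using the principal `2`-block.
-/

set_option autoImplicit false
set_option linter.unusedVariables false
set_option linter.style.haveILetI false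
set_option linter.unusedSectionVars false

open Cfsg Cfsg.Agent.Lib.Char.Integrality
open scoped Pointwise

namespace Cfsg.Agent.Lib.ExtClosed

universe u

variable {X : Type u} [Group X] [Finite X] {D : Set X}

/-- `a * b` has odd order. -/
def Rel (a b : X) : Prop := Odd (orderOf (a * b))

lemma rel_refl {a : X} (ha : a * a = 1) : Rel a a := by
  unfold Rel
  rw [ha, orderOf_one]
  exact odd_one

lemma rel_symm {a b : X} (ha : a * a = 1) (hb : b * b = 1) (h : Rel a b) : Rel b a := by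
  unfold Rel at h ⊢
  have h1 : b * a = (a * b)⁻¹ := by
    have ha' : a⁻¹ = a := inv_eq_of_mul_eq_one_left ha
    have hb' : b⁻¹ = b := inv_eq_of_mul_eq_one_left hb
    rw [mul_inv_rev, ha', hb']
  rw [h1, orderOf_inv]
  exact h

lemma rel_conj (g : X) {a b : X} (h : Rel a b) : Rel (g * a * g⁻¹) (g * b * g⁻¹) := by
  unfold Rel at h ⊢
  have h1 : g * a * g⁻¹ * (g * b * g⁻¹) = (MulAut.conj g).toMonoidHom (a * b) := by
    simp only [MulEquiv.toMonoidHom_eq_coe, MonoidHom.coe_coe, MulAut.conj_apply]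
    group
  rw [h1, orderOf_injective (MulAut.conj g).toMonoidHom (MulAut.conj g).injective]
  exact h

lemma rel_trans_mul {a b c : X} (hb : b * b = 1) : a * c = (a * b) * (b * c) := by
  rw [mul_assoc, ← mul_assoc b, hb, one_mul]

/-- The even case. -/
theorem Hyp.even_key (hD : Hyp D) {a y : X} (ha : a ∈ D) (hy : y ∈ D) (haa : a * a = 1) (hyy : y * y = 1)
    (hne : ¬ Rel a y)
    (hIH : ∀ x ∈ D, orderOf x = 2 → Concl (Cfsg.Agent.Lib.ExtClosed.restr D (Subgroup.centralizer ({x} : Set X)))) :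
    ∃ w ∈ D, orderOf w = 2 ∧ ∃ v : Subgroup.centralizer ({w} : Set X),
      v ∈ pPrimeCore 2 (Subgroup.centralizer ({w} : Set X)) ∧ a * y = w * v := by
  have hai : a⁻¹ = a := inv_eq_of_mul_eq_one_left haa
  have hyi : y⁻¹ = y := inv_eq_of_mul_eq_one_left hyy
  set m := a * y with hm
  have heven : Even (orderOf m) := Nat.not_odd_iff_even.1 hne
  obtain ⟨r, hr⟩ := heven
  have hr2 : orderOf m = 2 * r := by omega
  have hrpos : 0 < r := by
    have := orderOf_pos m
    omega
  set w := m ^ r with hw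
  have hw1 : w ≠ 1 := by
    apply pow_ne_one_of_lt_orderOf hrpos.ne'
    omega
  have hww : w ^ 2 = 1 := by
    rw [hw, ← pow_mul, mul_comm, ← hr2, pow_orderOf_eq_one]
  have hword : orderOf w = 2 := orderOf_eq_prime hww hw1
  have hwi : w⁻¹ = w := by
    have : w * w = 1 := by rw [← pow_two, hww]
    exact inv_eq_of_mul_eq_one_left this
  -- `w ∈ D`
  obtain ⟨Q, hQL, hQo, hQn, hQc, hL⟩ := hD.pair (Subgroup.zpowers a) (Subgroup.zpowers y) (comm_zpowers a)
    (hD.zpowers_mem ha) (comm_zpowers y) (hD.zpowers_mem hy)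
  have hmL : m ∈ (Subgroup.zpowers a ⊔ Subgroup.zpowers y : Subgroup X) :=
    Subgroup.mul_mem _ (Subgroup.mem_sup_left (Subgroup.mem_zpowers a))
      (Subgroup.mem_sup_right (Subgroup.mem_zpowers y))
  have hwD : w ∈ D := hL w (Subgroup.pow_mem _ hmL _) hw1 ⟨1, by simpa using hww⟩
  have hma : a * m * a⁻¹ = m⁻¹ := by
    rw [hm, hai, mul_inv_rev, hyi, hai]
    calc a * (a * y) * a = (a * a) * y * a := by group
      _ = y * a := by rw [haa, one_mul]
  have hmt : y * m * y⁻¹ = m⁻¹ := by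
    rw [hm, hyi, mul_inv_rev, hyi, hai]
    calc y * (a * y) * y = y * a * (y * y) := by group
      _ = y * a := by rw [hyy, mul_one]
  have hwa : a * w * a⁻¹ = w := by
    rw [hw, ← conj_pow, hma, inv_pow, ← hw, hwi]
  have hwt : y * w * y⁻¹ = w := by
    rw [hw, ← conj_pow, hmt, inv_pow, ← hw, hwi]
  have haw : a * w = w * a := by
    calc a * w = (a * w * a⁻¹) * a := by group
      _ = w * a := by rw [hwa]
  have htw : y * w = w * y := by
    calc y * w = (y * w * y⁻¹) * y := by group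
      _ = w * y := by rw [hwt]
  have haC : a ∈ Subgroup.centralizer ({w} : Set X) := Subgroup.mem_centralizer_singleton_iff.2 haw
  have htC : y ∈ Subgroup.centralizer ({w} : Set X) := Subgroup.mem_centralizer_singleton_iff.2 htw
  have hm2 : m * m ∈ OC (Subgroup.centralizer ({w} : Set X)) := by
    have h1 := concl_restr (hIH w hwD hword) ha haC hy htC
    have h2 : a * y * a⁻¹ * y⁻¹ = m * m := by
      rw [hai, hyi, hm]
      group
    rwa [h2] at h1
  have hrodd : Odd r := by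
    have h1 := odd_orderOf_of_mem (OC_card (Subgroup.centralizer ({w} : Set X))) hm2
    rw [← pow_two, orderOf_pow_of_dvd (by norm_num) (by omega), hr2] at h1
    have h3 : 2 * r / 2 = r := by omega
    rwa [h3] at h1
  obtain ⟨s, hs⟩ := hrodd
  have hvN : m ^ (r + 1) ∈ OC (Subgroup.centralizer ({w} : Set X)) := by
    have : m ^ (r + 1) = (m * m) ^ (s + 1) := by
      rw [← pow_two, ← pow_mul]
      congr 1
      omega
    rw [this]
    exact Subgroup.pow_mem _ hm2 _
  obtain ⟨v, hv, hve⟩ := hvN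
  refine ⟨w, hwD, hword, v, hv, ?_⟩
  have hve' : ((v : Subgroup.centralizer ({w} : Set X)) : X) = m ^ (r + 1) := hve
  rw [hve', hw, ← pow_add]
  have : r + (r + 1) = orderOf m + 1 := by omega
  rw [this, pow_succ, pow_orderOf_eq_one, one_mul]

/-- Each involution in `D` has a partner in `Ω₁(Hs T)`. -/
theorem Hyp.exists_partner (hD : Hyp D) (T : Sylow 2 X) {a : X} (ha : a ∈ D) (haa : a * a = 1) :
    ∃ e ∈ hD.Om T, e ≠ 1 ∧ Rel a e := by
  have hA2 : IsPGroup 2 (hD.Hs T) := hD.HP_two _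
  obtain ⟨Q, hQL, hQo, hQn, hQc, hL, hsplit⟩ := hD.exists_sup T (Subgroup.zpowers a) (comm_zpowers a)
    (hD.zpowers_mem ha)
  have haL : a ∈ hD.Hs T ⊔ Subgroup.zpowers a := Subgroup.mem_sup_right (Subgroup.mem_zpowers a)
  obtain ⟨q, hq, h, hh, hah⟩ := hsplit a haL
  have hhL : h ∈ hD.Hs T ⊔ Subgroup.zpowers a := Subgroup.mem_sup_left hh
  have hhQ : h * h ∈ Q := by
    have h1 : h * h = (q * (h * q * h⁻¹))⁻¹ := eq_inv_of_mul_eq_one_right (by
      calc q * (h * q * h⁻¹) * (h * h) = (q * h) * (q * h) := by group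
        _ = 1 := by rw [← hah, haa])
    rw [h1]
    exact Q.inv_mem (Q.mul_mem hq (hQn h hhL q hq))
  have hh2 : h * h = 1 := inter_eq_one hA2 hQo ((hD.Hs T).mul_mem hh hh) hhQ
  refine ⟨h, ⟨hh, by rw [pow_two]; exact hh2⟩, ?_, ?_⟩
  · rintro rfl
    rw [mul_one] at hah
    have h3 : a = 1 := eq_one_of_two_of_odd (hD.two a ha) (by
      rw [hah]; exact odd_orderOf_of_mem hQo hq)
    rw [h3] at ha
    exact hD.one_not ha
  · unfold Rel
    have h4 : a * h = q := by rw [hah, mul_assoc, hh2, mul_one]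
    rw [h4]
    exact odd_orderOf_of_mem hQo hq

/-- The partner is unique. -/
theorem Hyp.partner_unique (hD : Hyp D) (T : Sylow 2 X) {a e e' : X} (ha : a ∈ D) (he : e ∈ hD.Om T)
    (he' : e' ∈ hD.Om T) (h : Rel a e) (h' : Rel a e') : e = e' := by
  have hA2 : IsPGroup 2 (hD.Hs T) := hD.HP_two _
  obtain ⟨Q, hQL, hQo, hQn, hQc, hL, hsplit⟩ := hD.exists_sup T (Subgroup.zpowers a) (comm_zpowers a)
    (hD.zpowers_mem ha)
  have haL : a ∈ hD.Hs T ⊔ Subgroup.zpowers a := Subgroup.mem_sup_right (Subgroup.mem_zpowers a)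
  have hn : ∀ l ∈ hD.Hs T, ∀ q ∈ Q, l * q * l⁻¹ ∈ Q := fun l hl q hq => hQn l (Subgroup.mem_sup_left hl) q hq
  have h1 : a * e ∈ Q := mem_Q_of_odd hA2 hQo hn
    (hsplit _ (Subgroup.mul_mem _ haL (Subgroup.mem_sup_left he.1))) h
  have h2 : a * e' ∈ Q := mem_Q_of_odd hA2 hQo hn
    (hsplit _ (Subgroup.mul_mem _ haL (Subgroup.mem_sup_left he'.1))) h'
  have h3 : e⁻¹ * e' ∈ Q := by
    have : e⁻¹ * e' = (a * e)⁻¹ * (a * e') := by group
    rw [this]
    exact Q.mul_mem (Q.inv_mem h1) h2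
  have h4 : e⁻¹ * e' = 1 := inter_eq_one hA2 hQo ((hD.Hs T).mul_mem ((hD.Hs T).inv_mem he.1) he'.1) h3
  exact (inv_mul_eq_one.1 h4)

/-- `Rel` is not transitive. -/
theorem Hyp.exists_triple (hD : Hyp D) (S : Sylow 2 X) (hgen : Subgroup.closure D = ⊤) {x y : X}
    (hx : x ∈ hD.Om S) (hy : y ∈ hD.Om S) (hxy : x ≠ y) (hx1 : x ≠ 1) (hconj : IsConj x y) :
    ∃ a b c : X, a ∈ D ∧ b ∈ D ∧ c ∈ D ∧ a * a = 1 ∧ b * b = 1 ∧ c * c = 1 ∧ Rel a b ∧ Rel b c ∧ ¬ Rel a c := by
  classical
  by_contra hno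
  have htrans : ∀ a b c : X, a ∈ D → b ∈ D → c ∈ D → a * a = 1 → b * b = 1 → c * c = 1 → Rel a b → Rel b c →
      Rel a c := by
    intro a b c ha hb hc haa hbb hcc hab hbc
    by_contra hac
    exact hno ⟨a, b, c, ha, hb, hc, haa, hbb, hcc, hab, hbc, hac⟩
  have hconjinv : ∀ (c g : X), c * c = 1 → (g * c * g⁻¹) * (g * c * g⁻¹) = 1 := by
    intro c g hc
    calc (g * c * g⁻¹) * (g * c * g⁻¹) = g * (c * c) * g⁻¹ := by group
      _ = 1 := by rw [hc]; group
  have hstab : ∀ g : X, ∀ c ∈ D, c * c = 1 → Rel c (g * c * g⁻¹) := by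
    intro g
    have hg : g ∈ Subgroup.closure D := by rw [hgen]; trivial
    induction hg using Subgroup.closure_induction with
    | mem l hl =>
      intro c hc hcc
      obtain ⟨T, hlT⟩ := hD.exists_mem_Hs hl
      obtain ⟨e, he, he1, hce⟩ := hD.exists_partner T hc hcc
      have heD : e ∈ D := hD.D_of_Om he he1
      have hee : e * e = 1 := by rw [← pow_two]; exact he.2
      have hle : l * e * l⁻¹ = e := by
        have := hD.HP_comm _ l hlT e he.1
        rw [this]
        group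
      have h1 := rel_conj l hce
      rw [hle] at h1
      have h2 := rel_symm (hconjinv c l hcc) hee h1
      exact htrans c e _ hc heD (hD.conj_mem c hc l) hcc hee (hconjinv c l hcc) hce h2
    | one =>
      intro c hc hcc
      have : (1 : X) * c * 1⁻¹ = c := by group
      rw [this]
      exact rel_refl hcc
    | mul g h _ _ ihg ihh =>
      intro c hc hcc
      have h1 := ihh c hc hcc
      have h2 := ihg _ (hD.conj_mem c hc h) (hconjinv c h hcc)
      have h3 : g * (h * c * h⁻¹) * g⁻¹ = g * h * c * (g * h)⁻¹ := by group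
      rw [h3] at h2
      exact htrans c _ _ hc (hD.conj_mem c hc h) (hD.conj_mem c hc _) hcc (hconjinv c h hcc)
        (hconjinv c _ hcc) h1 h2
    | inv g _ ih =>
      intro c hc hcc
      have h1 := ih _ (hD.conj_mem c hc g⁻¹) (hconjinv c g⁻¹ hcc)
      have h3 : g * (g⁻¹ * c * g⁻¹⁻¹) * g⁻¹ = c := by group
      rw [h3] at h1
      exact rel_symm (hconjinv c g⁻¹ hcc) hcc h1
  obtain ⟨g, hg⟩ := isConj_iff.1 hconj
  have hxD : x ∈ D := hD.D_of_Om hx hx1
  have hxx : x * x = 1 := by rw [← pow_two]; exact hx.2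
  have h1 := hstab g x hxD hxx
  rw [hg] at h1
  unfold Rel at h1
  have h2 : orderOf (x * y) = 2 := by
    apply orderOf_eq_prime ((hD.Om S).mul_mem hx hy).2
    intro h3
    apply hxy
    have hyy : y * y = 1 := by rw [← pow_two]; exact hy.2
    have : y⁻¹ = y := inv_eq_of_mul_eq_one_left hyy
    rw [eq_inv_of_mul_eq_one_left h3, this]
  rw [h2] at h1
  exact absurd h1 (by decide)

/-- Three involutions with `a ~ b ~ c`, `a ≁ c` generate. -/
theorem Hyp.closure_triple (hD : Hyp D) {a b c : X} (ha : a ∈ D) (hb : b ∈ D) (hc : c ∈ D) (haa : a * a = 1)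
    (hbb : b * b = 1) (hcc : c * c = 1) (hab : Rel a b) (hbc : Rel b c) (hac : ¬ Rel a c)
    (hIHp : ∀ Y : Subgroup X, Y ≠ ⊤ → Concl (Cfsg.Agent.Lib.ExtClosed.restr D Y)) :
    Subgroup.closure ({a, b, c} : Set X) = ⊤ := by
  by_contra hne
  set Y := Subgroup.closure ({a, b, c} : Set X) with hY
  have hC := hIHp Y hne
  have haY : a ∈ Y := Subgroup.subset_closure (by simp)
  have hbY : b ∈ Y := Subgroup.subset_closure (by simp)
  have hcY : c ∈ Y := Subgroup.subset_closure (by simp)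
  have hbi : b⁻¹ = b := inv_eq_of_mul_eq_one_left hbb
  have hci : c⁻¹ = c := inv_eq_of_mul_eq_one_left hcc
  have h1 : a * b ∈ OC Y := by
    have := mem_OC_of_odd haY hbY (hD.two a ha) (hD.two b hb) (concl_restr hC ha haY hb hbY)
      (by rw [hbi]; exact hab)
    rwa [hbi] at this
  have h2 : b * c ∈ OC Y := by
    have := mem_OC_of_odd hbY hcY (hD.two b hb) (hD.two c hc) (concl_restr hC hb hbY hc hcY)
      (by rw [hci]; exact hbc)
    rwa [hci] at this
  apply hac
  unfold Rel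
  rw [rel_trans_mul hbb]
  exact odd_orderOf_of_mem (OC_card Y) ((OC Y).mul_mem h1 h2)

/-- **Rank two is impossible.** -/
theorem Hyp.rank_two_false (hD : Hyp D) (S : Sylow 2 X) (hcard : Nat.card (hD.Om S) = 4)
    (hconj : ∀ a ∈ hD.Om S, a ≠ 1 → ∀ b ∈ hD.Om S, b ≠ 1 → IsConj a b)
    (hgen : Subgroup.closure D = ⊤)
    (hIHp : ∀ Y : Subgroup X, Y ≠ ⊤ → Concl (Cfsg.Agent.Lib.ExtClosed.restr D Y))
    (hcen : ∀ x ∈ D, orderOf x = 2 → Subgroup.centralizer ({x} : Set X) ≠ ⊤) : False := by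
  classical
  haveI : Fact (Nat.Prime 2) := ⟨Nat.prime_two⟩
  haveI : Fintype X := Fintype.ofFinite X
  obtain ⟨M, hM⟩ := Cfsg.Agent.Lib.Components.ZStarMain.exists_modular_aux 2 Nat.prime_two
  haveI : M.IsPrime := hM.2.1.isPrime
  have hIH : ∀ x ∈ D, orderOf x = 2 → Concl (Cfsg.Agent.Lib.ExtClosed.restr D (Subgroup.centralizer ({x} : Set X))) :=
    fun x hx hx2 => hIHp _ (hcen x hx hx2)
  obtain ⟨x, hx, y, hy, hx1, hy1, hxy⟩ := exists_two_ne (E := hD.Om S) (by omega)
  have hyD : y ∈ D := hD.D_of_Om hy hy1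
  have hyord : orderOf y = 2 := hD.orderOf_of_Om hy hy1
  have hyy : y * y = 1 := by rw [← pow_two]; exact hy.2
  -- all involutions are conjugate
  have hall : ∀ a ∈ D, a * a = 1 → IsConj y a := by
    intro a ha haa
    obtain ⟨T, haT⟩ := hD.exists_mem_Hs ha
    obtain ⟨g, rfl⟩ := MulAction.exists_smul_eq X S T
    rw [hD.Hs_conj] at haT
    obtain ⟨a₀, ha₀, rfl⟩ := haT
    have hval : (MulAut.conj g).toMonoidHom a₀ = g * a₀ * g⁻¹ := rfl
    rw [hval] at ha haa ⊢
    have ha₀a₀ : a₀ * a₀ = 1 := by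
      have h1 : g * (a₀ * a₀) * g⁻¹ = 1 := by
        rw [← haa]; group
      have h2 : a₀ * a₀ = g⁻¹ * (g * (a₀ * a₀) * g⁻¹) * g := by group
      rw [h2, h1]; group
    have ha₀1 : a₀ ≠ 1 := by
      rintro rfl
      have h3 : g * (1 : X) * g⁻¹ = 1 := by group
      rw [h3] at ha
      exact hD.one_not ha
    have ha₀E : a₀ ∈ hD.Om S := ⟨ha₀, by rw [pow_two]; exact ha₀a₀⟩
    exact (hconj y hy hy1 a₀ ha₀E ha₀1).trans (isConj_iff.2 ⟨g, rfl⟩)
  set C := classFinset y with hC
  have hCD : ∀ a ∈ C, a ∈ D ∧ a * a = 1 := by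
    intro a ha
    rw [hC, mem_classFinset] at ha
    obtain ⟨g, rfl⟩ := isConj_iff.1 ha
    refine ⟨hD.conj_mem y hyD g, ?_⟩
    calc (g * y * g⁻¹) * (g * y * g⁻¹) = g * (y * y) * g⁻¹ := by group
      _ = 1 := by rw [hyy]; group
  have hDC : ∀ a ∈ D, a * a = 1 → a ∈ C := by
    intro a ha haa
    rw [hC, mem_classFinset]
    exact hall a ha haa
  set F : X → Finset X := fun e => C.filter (fun a => Rel a e) with hF
  have hcardF : ∀ e ∈ hD.Om S, e ≠ 1 → (F e).card = (F y).card := by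
    intro e he he1
    obtain ⟨g, hg⟩ := isConj_iff.1 (hconj e he he1 y hy hy1)
    refine Finset.card_bij' (fun a _ => g * a * g⁻¹) (fun a _ => g⁻¹ * a * g) ?_ ?_ ?_ ?_
    · intro a ha
      rw [hF, Finset.mem_filter] at ha ⊢
      refine ⟨?_, ?_⟩
      · have := hCD a ha.1
        apply hDC _ (hD.conj_mem a this.1 g)
        calc (g * a * g⁻¹) * (g * a * g⁻¹) = g * (a * a) * g⁻¹ := by group
          _ = 1 := by rw [this.2]; group
      · have := rel_conj g ha.2
        rwa [hg] at this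
    · intro a ha
      rw [hF, Finset.mem_filter] at ha ⊢
      refine ⟨?_, ?_⟩
      · have := hCD a ha.1
        apply hDC _ (hD.conj_mem a this.1 g⁻¹ |> fun h => by simpa using h)
        calc (g⁻¹ * a * g) * (g⁻¹ * a * g) = g⁻¹ * (a * a) * g := by group
          _ = 1 := by rw [this.2]; group
      · have := rel_conj g⁻¹ ha.2
        have h1 : g⁻¹ * y * g⁻¹⁻¹ = e := by rw [← hg]; group
        rw [h1] at this
        simpa using this
    · intro a _
      group
    · intro a _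
      group
  -- the partition
  set E' : Finset X := (Finset.univ.filter (· ∈ hD.Om S)).erase 1 with hE'
  have hE'card : E'.card = 3 := by
    rw [hE', Finset.card_erase_of_mem (Finset.mem_filter.2 ⟨Finset.mem_univ _, (hD.Om S).one_mem⟩)]
    have : (Finset.univ.filter (· ∈ hD.Om S)).card = Nat.card (hD.Om S) := by
      rw [Nat.card_eq_fintype_card, Fintype.card_subtype]
    rw [this, hcard]
  have hE'mem : ∀ e, e ∈ E' ↔ e ∈ hD.Om S ∧ e ≠ 1 := by
    intro e
    simp [hE', and_comm]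
  have hunion : C = E'.biUnion F := by
    ext a
    rw [Finset.mem_biUnion]
    constructor
    · intro ha
      obtain ⟨e, he, he1, hae⟩ := hD.exists_partner S (hCD a ha).1 (hCD a ha).2
      exact ⟨e, (hE'mem e).2 ⟨he, he1⟩, Finset.mem_filter.2 ⟨ha, hae⟩⟩
    · rintro ⟨e, _, he⟩
      exact (Finset.mem_filter.1 he).1
  have hdisj : ∀ e ∈ E', ∀ e' ∈ E', e ≠ e' → Disjoint (F e) (F e') := by
    intro e he e' he' hne
    rw [Finset.disjoint_left]
    intro a ha ha'
    obtain ⟨ha1, ha2⟩ := Finset.mem_filter.1 ha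
    obtain ⟨-, ha3⟩ := Finset.mem_filter.1 ha'
    exact hne (hD.partner_unique S (hCD a ha1).1 ((hE'mem e).1 he).1 ((hE'mem e').1 he').1 ha2 ha3)
  have hCcard : C.card = 3 * (F y).card := by
    rw [hunion, Finset.card_biUnion hdisj]
    rw [Finset.sum_congr rfl (fun e he => hcardF e ((hE'mem e).1 he).1 ((hE'mem e).1 he).2)]
    rw [Finset.sum_const, hE'card, smul_eq_mul]
  have hyC : y ∈ C := hDC y hyD hyy
  have hTne : (F y).Nonempty := ⟨y, Finset.mem_filter.2 ⟨hyC, rel_refl hyy⟩⟩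
  -- the triple
  obtain ⟨a, b, c, ha, hb, hc, haa, hbb, hcc, hab, hbc, hac⟩ :=
    hD.exists_triple S hgen hx hy hxy hx1 (hconj x hx hx1 y hy hy1)
  have hclos := hD.closure_triple ha hb hc haa hbb hcc hab hbc hac hIHp
  refine Cfsg.Agent.Lib.ExtClosed.RankChar.abstract_false hM hyord (F y) (Finset.filter_subset _ _) hTne hCcard
    (fun a ha => (Finset.mem_filter.1 ha).2) ?_ ?_
  · intro a haC haT χ hχ
    have hna : ¬ Rel a y := fun h => haT (Finset.mem_filter.2 ⟨haC, h⟩)
    obtain ⟨w, hwD, hword, v, hv, hvw⟩ := hD.even_key (hCD a haC).1 hyD (hCD a haC).2 hyy hna hIH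
    haveI := Fintype.ofFinite (Subgroup.centralizer ({w} : Set X))
    have h1 := Cfsg.Agent.Lib.Blocks.PrincipalCen.apply_mul_core hM (u := w) (k := 1) (by simpa using hword)
      (v := v) hv hχ
    rw [hvw, h1]
    have hww : w * w = 1 := by rw [← pow_two, ← hword, pow_orderOf_eq_one]
    exact (Cfsg.Agent.Lib.Char.CompleteCor.irr_apply_of_isConj (hall w hwD hww) χ).symm
  · intro χ hne
    obtain ⟨n, ρ, hirr, hρ⟩ := χ.2
    have hva : ∀ d, d ∈ D → d * d = 1 → ρ.character d = ρ.character y := by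
      intro d hd hdd
      rw [hρ]
      exact (Cfsg.Agent.Lib.Char.CompleteCor.irr_apply_of_isConj (hall d hd hdd) χ).symm
    obtain ⟨f, hf, hf3⟩ := Cfsg.Agent.Lib.ExtClosed.RankChar.three_bound ρ hirr haa hbb hcc
      ((hva a ha haa).trans (hva b hb hbb).symm) ((hva a ha haa).trans (hva c hc hcc).symm) hclos
      (by rw [hρ]; exact hne)
    refine ⟨n, f, ?_, ?_, hf3⟩
    · rw [← hρ]; simp
    · rw [← hρ, ← hva a ha haa, hf]

end Cfsg.Agent.Lib.ExtClosed
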