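import Mathlib
import Cfsg.Agent.Lib.ExtClosed.RankTwo
import Cfsg.Agent.Lib.ExtClosed.Isolated
import Cfsg.Agent.Lib.ExtClosed.Quot

/-!
# The main theorem on sets `D`

If `Hyp D` then all commutators of members of `D` lie in `O(X)`.
-/

set_option autoImplicit false
set_option linter.unusedVariables false
set_option linter.style.haveILetI false
set_option linter.unusedSectionVars false

open Cfsg
open scoped Pointwise

namespace Cfsg.Agent.Lib.ExtClosed

universe u

/-- Four-element subgroups. -/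
lemma eq_of_card_four {X : Type u} [Group X] [Finite X] {E : Subgroup X} (h4 : Nat.card E = 4) {a b x : X}
    (ha : a ∈ E) (hb : b ∈ E) (ha1 : a ≠ 1) (hb1 : b ≠ 1) (hab : a ≠ b) (hab1 : a * b ≠ 1) (hx : x ∈ E) :
    x = 1 ∨ x = a ∨ x = b ∨ x = a * b := by
  classical
  haveI : Fintype X := Fintype.ofFinite X
  have hc : (Finset.univ.filter (· ∈ E)).card = 4 := by
    rw [← h4, Nat.card_eq_fintype_card, Fintype.card_subtype]
  have hab2 : a * b ≠ a := by
    intro h
    apply hb1
    simpa using h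
  have hab3 : a * b ≠ b := by
    intro h
    apply ha1
    simpa using h
  have hs : ({1, a, b, a * b} : Finset X) ⊆ Finset.univ.filter (· ∈ E) := by
    intro y hy
    simp only [Finset.mem_insert, Finset.mem_singleton] at hy
    rw [Finset.mem_filter]
    refine ⟨Finset.mem_univ _, ?_⟩
    rcases hy with rfl | rfl | rfl | rfl
    · exact E.one_mem
    · exact ha
    · exact hb
    · exact E.mul_mem ha hb
  have hcard : ({1, a, b, a * b} : Finset X).card = 4 := by
    rw [Finset.card_insert_of_notMem, Finset.card_insert_of_notMem, Finset.card_insert_of_notMem,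
      Finset.card_singleton]
    · simp only [Finset.mem_singleton]
      exact hab3.symm
    · simp only [Finset.mem_insert, Finset.mem_singleton, not_or]
      exact ⟨hab, hab2.symm⟩
    · simp only [Finset.mem_insert, Finset.mem_singleton, not_or]
      exact ⟨ha1.symm, hb1.symm, hab1.symm⟩
  have heq := Finset.eq_of_subset_of_card_le hs (by rw [hc, hcard])
  have hxm : x ∈ Finset.univ.filter (· ∈ E) := Finset.mem_filter.2 ⟨Finset.mem_univ _, hx⟩
  rw [← heq] at hxm
  simpa using hxm

/-- Elements of `D` have a power which is an involution of `D`. -/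
lemma Hyp.exists_invol {X : Type u} [Group X] [Finite X] {D : Set X} (hD : Hyp D) {a : X} (ha : a ∈ D) :
    ∃ k : ℕ, a ^ k ∈ D ∧ orderOf (a ^ k) = 2 := by
  have ha1 : a ≠ 1 := fun h => hD.one_not (h ▸ ha)
  obtain ⟨k, hk⟩ := hD.two a ha
  obtain ⟨j, -, hj⟩ := (Nat.dvd_prime_pow Nat.prime_two).1 (orderOf_dvd_of_pow_eq_one hk)
  have hj0 : j ≠ 0 := by
    rintro rfl
    rw [pow_zero, orderOf_eq_one_iff] at hj
    exact ha1 hj
  obtain ⟨i, rfl⟩ := Nat.exists_eq_succ_of_ne_zero hj0
  have h2 : orderOf (a ^ 2 ^ i) = 2 := by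
    rw [orderOf_pow_of_dvd (by positivity) (by rw [hj]; exact pow_dvd_pow 2 (Nat.le_succ i)), hj]
    rw [pow_succ]
    have : 0 < 2 ^ i := by positivity
    exact Nat.mul_div_cancel_left 2 this
  refine ⟨2 ^ i, hD.pow_mem a ha _ ?_, h2⟩
  intro h3
  rw [h3, orderOf_one] at h2
  omega

/-- **The main theorem.** -/
theorem t_theorem_aux : ∀ (n : ℕ) (X : Type u) [Group X] [Finite X] (D : Set X), Nat.card X = n → Hyp D → Concl D := by
  intro n
  induction n using Nat.strong_induction_on with
  | _ n ih =>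
  intro X _ _ D hn hD
  classical
  haveI : Fact (Nat.Prime 2) := ⟨Nat.prime_two⟩
  have hIHp : ∀ Y : Subgroup X, Y ≠ ⊤ → Concl (restr D Y) := by
    intro Y hY
    refine ih (Nat.card Y) ?_ Y (restr D Y) rfl (hD.restr Y)
    rw [← hn]
    exact lt_of_le_of_ne (Subgroup.card_le_card_group Y) fun h => hY (Subgroup.eq_top_of_card_eq Y h)
  -- the empty case
  by_cases hDne : D.Nonempty
  swap
  · intro a ha
    exact absurd ⟨a, ha⟩ hDne
  -- generation
  by_cases hgen : Subgroup.closure D = ⊤
  swap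
  · set Y := Subgroup.closure D with hY
    haveI hYn : Y.Normal := by
      constructor
      intro x hx g
      induction hx using Subgroup.closure_induction with
      | mem x hx => exact Subgroup.subset_closure (hD.conj_mem x hx g)
      | one => simp
      | mul x y _ _ hx hy =>
        have : g * (x * y) * g⁻¹ = (g * x * g⁻¹) * (g * y * g⁻¹) := by group
        rw [this]
        exact Y.mul_mem hx hy
      | inv x _ hx =>
        have : g * x⁻¹ * g⁻¹ = (g * x * g⁻¹)⁻¹ := by group
        rw [this]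
        exact Y.inv_mem hx
    intro a ha b hb
    exact OC_le_oddCore (concl_restr (hIHp Y hgen) ha (Subgroup.subset_closure ha) hb (Subgroup.subset_closure hb))
  -- central involution
  by_cases hcen : ∃ u ∈ D, orderOf u = 2 ∧ ∀ g : X, g * u = u * g
  · obtain ⟨u, hu, hu2, huc⟩ := hcen
    set K := Subgroup.zpowers u with hKdef
    have hK : ∀ x : X, x ∈ K ↔ x = 1 ∨ x = u := by
      intro x
      constructor
      · intro hx
        obtain ⟨m, rfl⟩ := (mem_powers_iff_mem_zpowers (x := u) (y := x)).2 hx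
        show u ^ m = 1 ∨ u ^ m = u
        obtain ⟨c, rfl | rfl⟩ := Nat.even_or_odd' m
        · left
          rw [pow_mul, ← hu2, pow_orderOf_eq_one, one_pow]
        · right
          rw [pow_succ, pow_mul, ← hu2, pow_orderOf_eq_one, one_pow, one_mul]
      · rintro (rfl | rfl)
        · exact K.one_mem
        · exact Subgroup.mem_zpowers _
    haveI hKn : K.Normal := by
      constructor
      intro x hx g
      have h1 : g * x = x * g := by
        rcases (hK x).1 hx with rfl | rfl
        · simp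
        · exact huc g
      rw [h1]
      simpa using hx
    have hq := Hyp.quot hD hu huc hu2 hK
    have hlt : Nat.card (X ⧸ K) < n := by
      rw [← hn]
      have h1 := Subgroup.card_mul_index K
      have h2 : Nat.card K = 2 := by rw [hKdef, Nat.card_zpowers, hu2]
      have h3 : K.index = Nat.card (X ⧸ K) := rfl
      rw [h2, h3] at h1
      have h4 : 0 < Nat.card (X ⧸ K) := Nat.card_pos
      omega
    exact concl_of_quot hD hu huc hu2 hK (ih _ hlt (X ⧸ K) (qset D K) rfl hq)
  have hcen' : ∀ x ∈ D, orderOf x = 2 → Subgroup.centralizer ({x} : Set X) ≠ ⊤ := by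
    intro x hx hx2 htop
    apply hcen
    refine ⟨x, hx, hx2, fun g => ?_⟩
    have : g ∈ Subgroup.centralizer ({x} : Set X) := by rw [htop]; trivial
    exact Subgroup.mem_centralizer_singleton_iff.1 this
  have hIHc : ∀ x ∈ D, orderOf x = 2 → Concl (restr D (Subgroup.centralizer ({x} : Set X))) :=
    fun x hx hx2 => hIHp _ (hcen' x hx hx2)
  obtain ⟨S⟩ : Nonempty (Sylow 2 X) := inferInstance
  by_cases h8 : 8 ≤ Nat.card (hD.Om S)
  · exact concl_of_rank_three hD S h8 hIHc
  by_cases hiso : ∃ u ∈ hD.Om S, u ≠ 1 ∧ ∀ g : X, g * u * g⁻¹ ∈ (S : Subgroup X) → g * u * g⁻¹ = u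
  · obtain ⟨u, hu, hu1, huiso⟩ := hiso
    have hu2 := hD.orderOf_of_Om hu hu1
    exact concl_of_isolated hD S hu.1 hu2 huiso (hIHc u (hD.D_of_Om hu hu1) hu2)
  exfalso
  have hiso' : ∀ u ∈ hD.Om S, u ≠ 1 → ∃ g : X, g * u * g⁻¹ ∈ hD.Om S ∧ g * u * g⁻¹ ≠ 1 ∧ g * u * g⁻¹ ≠ u := by
    intro u hu hu1
    by_contra hno
    apply hiso
    refine ⟨u, hu, hu1, fun g hg => ?_⟩
    by_contra hne
    apply hno
    have huD := hD.D_of_Om hu hu1
    have hne1 : g * u * g⁻¹ ≠ 1 := by
      intro h
      have h1 := hD.conj_mem u huD g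
      rw [h] at h1
      exact hD.one_not h1
    refine ⟨g, ⟨⟨hg, Or.inr (hD.conj_mem u huD g)⟩, ?_⟩, hne1, hne⟩
    rw [conj_pow, hu.2]
    group
  -- `Ω` is nontrivial
  obtain ⟨a₀, ha₀⟩ := hDne
  obtain ⟨k, hkD, hk2⟩ := hD.exists_invol ha₀
  have hOmne : ∃ u ∈ hD.Om S, u ≠ 1 := by
    obtain ⟨T, hT⟩ := hD.exists_mem_Hs hkD
    obtain ⟨g, rfl⟩ := MulAction.exists_smul_eq X T S
    have hv2 : (a₀ ^ k) ^ 2 = 1 := by rw [← hk2, pow_orderOf_eq_one]
    have hv1 : g * (a₀ ^ k) * g⁻¹ ≠ 1 := by
      intro h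
      have h1 := hD.conj_mem _ hkD g
      rw [h] at h1
      exact hD.one_not h1
    refine ⟨g * (a₀ ^ k) * g⁻¹, ⟨?_, ?_⟩, hv1⟩
    · rw [hD.Hs_conj]
      exact ⟨_, hT, rfl⟩
    · rw [conj_pow, hv2]
      group
  obtain ⟨u, hu, hu1⟩ := hOmne
  obtain ⟨g, hgE, hg1, hgu⟩ := hiso' u hu hu1
  have hcard3 : 3 ≤ Nat.card (hD.Om S) := by
    haveI : Fintype X := Fintype.ofFinite X
    have hs : ({1, u, g * u * g⁻¹} : Finset X) ⊆ Finset.univ.filter (· ∈ hD.Om S) := by
      intro y hy
      simp only [Finset.mem_insert, Finset.mem_singleton] at hy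
      rw [Finset.mem_filter]
      refine ⟨Finset.mem_univ _, ?_⟩
      rcases hy with rfl | rfl | rfl
      · exact Subgroup.one_mem _
      · exact hu
      · exact hgE
    have hc : ({1, u, g * u * g⁻¹} : Finset X).card = 3 := by
      rw [Finset.card_insert_of_notMem, Finset.card_insert_of_notMem, Finset.card_singleton]
      · simp only [Finset.mem_singleton]
        exact hgu.symm
      · simp only [Finset.mem_insert, Finset.mem_singleton, not_or]
        exact ⟨hu1.symm, hg1.symm⟩
    have h3 := Finset.card_le_card hs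
    rw [hc] at h3
    rw [Nat.card_eq_fintype_card, Fintype.card_subtype]
    exact h3
  have hpow : IsPGroup 2 (hD.Om S) := (hD.HP_two (P := (S : Subgroup X)) S.isPGroup').to_le (fun x hx => hx.1)
  obtain ⟨j, hj⟩ := IsPGroup.iff_card.1 hpow
  have hcard4 : Nat.card (hD.Om S) = 4 := by
    rw [hj] at hcard3 h8 ⊢
    have hj3 : j < 3 := by
      by_contra hc
      apply h8
      calc 8 = 2 ^ 3 := by norm_num
        _ ≤ 2 ^ j := Nat.pow_le_pow_right (by norm_num) (by omega)
    interval_cases j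
    · omega
    · omega
    · norm_num
  have hconj : ∀ a ∈ hD.Om S, a ≠ 1 → ∀ b ∈ hD.Om S, b ≠ 1 → IsConj a b := by
    intro a ha ha1 b hb hb1
    by_cases hab : a = b
    · rw [hab]
    have hbb : b * b = 1 := by rw [← pow_two]; exact hb.2
    have hab1 : a * b ≠ 1 := by
      intro h
      apply hab
      have h1 : b⁻¹ = b := inv_eq_of_mul_eq_one_left hbb
      rw [eq_inv_of_mul_eq_one_left h, h1]
    obtain ⟨g, hg, hg1, hga⟩ := hiso' a ha ha1
    obtain ⟨h, hh, hh1, hhb⟩ := hiso' b hb hb1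
    rcases eq_of_card_four hcard4 ha hb ha1 hb1 hab hab1 hg with h1 | h1 | h1 | h1
    · exact absurd h1 hg1
    · exact absurd h1 hga
    · exact isConj_iff.2 ⟨g, h1⟩
    rcases eq_of_card_four hcard4 ha hb ha1 hb1 hab hab1 hh with h2 | h2 | h2 | h2
    · exact absurd h2 hh1
    · exact (isConj_iff.2 ⟨h, h2⟩ : IsConj b a).symm
    · exact absurd h2 hhb
    · exact (isConj_iff.2 ⟨g, h1⟩ : IsConj a (a * b)).trans (isConj_iff.2 ⟨h, h2⟩ : IsConj b (a * b)).symm
  exact hD.rank_two_false S hcard4 hconj hgen hIHp hcen'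

/-- **The main theorem.** -/
theorem t_theorem {X : Type u} [Group X] [Finite X] {D : Set X} (hD : Hyp D) : Concl D :=
  t_theorem_aux _ X D rfl hD

end Cfsg.Agent.Lib.ExtClosed
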