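import Mathlib
import Cfsg.Prelude.Def_SubgroupEmbedding
import Cfsg.Agent.Lib.ExtClosed.Main
import Cfsg.Agent.Lib.Coprime.Three

/-!
# Extremely closed abelian `2`-subgroups

If `H` is an extremely closed abelian `2`-subgroup of the finite group `G`, then `G = N_G(H) O(G)`.
-/

set_option autoImplicit false
set_option linter.unusedVariables false
set_option linter.style.haveILetI false
set_option linter.unusedSectionVars false

open Cfsg
open scoped Pointwise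

namespace Cfsg.Agent.Lib.ExtClosed

universe u

variable {G : Type u} [Group G]

/-- Conjugate subgroup. -/
abbrev cj (g : G) (H : Subgroup G) : Subgroup G := H.map (MulAut.conj g).toMonoidHom

lemma mem_cj {g : G} {H : Subgroup G} {a : G} : a ∈ cj g H ↔ g⁻¹ * a * g ∈ H := by
  constructor
  · rintro ⟨b, hb, rfl⟩
    have : g⁻¹ * (MulAut.conj g).toMonoidHom b * g = b := by
      show g⁻¹ * (g * b * g⁻¹) * g = b
      group
    rwa [this]
  · intro h
    refine ⟨_, h, ?_⟩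
    show g * (g⁻¹ * a * g) * g⁻¹ = a
    group

lemma conj_mem_cj {g : G} {H : Subgroup G} {a : G} (ha : a ∈ H) : g * a * g⁻¹ ∈ cj g H := ⟨a, ha, rfl⟩

lemma cj_cj (g h : G) (H : Subgroup G) : cj g (cj h H) = cj (g * h) H := by
  ext a
  simp only [mem_cj]
  have : h⁻¹ * (g⁻¹ * a * g) * h = (g * h)⁻¹ * a * (g * h) := by group
  rw [this]

lemma cj_one (H : Subgroup G) : cj 1 H = H := by
  ext a
  simp [mem_cj]

/-- The hypotheses on `H`. -/
structure Ext (H : Subgroup G) : Prop where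
  two : IsPGroup 2 H
  comm : ∀ a ∈ H, ∀ b ∈ H, a * b = b * a
  cl : ∀ g : G, (H ⊔ cj g H) ⊓ Subgroup.normalizer (H : Set G) = H

variable {H : Subgroup G}

lemma Ext.conj (h : Ext H) (x : G) : Ext (cj x H) where
  two := by
    rw [isPGroup_iff_two] at *
    have h2 := h.two
    rw [isPGroup_iff_two] at h2
    rintro _ ⟨a, ha, rfl⟩
    obtain ⟨k, hk⟩ := h2 a ha
    refine ⟨k, ?_⟩
    rw [← map_pow, hk, map_one]
  comm := by
    rintro _ ⟨a, ha, rfl⟩ _ ⟨b, hb, rfl⟩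
    rw [← map_mul, ← map_mul, h.comm a ha b hb]
  cl := by
    intro g
    have h1 : cj x H ⊔ cj g (cj x H) = (H ⊔ cj (x⁻¹ * g * x) H).map (MulAut.conj x).toMonoidHom := by
      rw [Subgroup.map_sup]
      congr 1
      show cj g (cj x H) = cj x (cj (x⁻¹ * g * x) H)
      rw [cj_cj, cj_cj]
      congr 1
      group
    have h2 : Subgroup.normalizer ((cj x H : Subgroup G) : Set G) =
        (Subgroup.normalizer (H : Set G)).map (MulAut.conj x).toMonoidHom :=
      (Subgroup.map_equiv_normalizer_eq H (MulAut.conj x)).symm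
    rw [h1, h2, ← Subgroup.map_inf _ _ _ (MulAut.conj x).injective, h.cl]

lemma Ext.max [Finite G] (h : Ext H) (g : G) {P : Subgroup G} (hPK : P ≤ H ⊔ cj g H) (hP : IsPGroup 2 P)
    (hHP : H ≤ P) : P = H := by
  classical
  haveI : Fact (Nat.Prime 2) := ⟨Nat.prime_two⟩
  by_contra hne
  haveI : Group.IsNilpotent P := hP.isNilpotent
  set H' : Subgroup P := H.subgroupOf P with hH'
  have hne' : H' ≠ ⊤ := by
    intro htop
    apply hne
    apply le_antisymm _ hHP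
    intro p hp
    have : (⟨p, hp⟩ : P) ∈ H' := by rw [htop]; trivial
    exact this
  have hlt := (normalizerCondition_of_isNilpotent (G := P)) H' (lt_top_iff_ne_top.2 hne')
  obtain ⟨x, hxN, hxH⟩ := SetLike.exists_of_lt hlt
  apply hxH
  have hxNG : (x : G) ∈ Subgroup.normalizer (H : Set G) := by
    rw [Subgroup.mem_normalizer_iff]
    intro y
    constructor
    · intro hy
      have h1 := (Subgroup.mem_normalizer_iff.1 hxN ⟨y, hHP hy⟩).1 hy
      exact h1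
    · intro hy
      have hyP : y ∈ P := by
        have h2 : y = (x : G)⁻¹ * ((x : G) * y * (x : G)⁻¹) * x := by group
        rw [h2]
        exact P.mul_mem (P.mul_mem (P.inv_mem x.2) (hHP hy)) x.2
      exact (Subgroup.mem_normalizer_iff.1 hxN ⟨y, hyP⟩).2 hy
  have h3 : (x : G) ∈ (H ⊔ cj g H) ⊓ Subgroup.normalizer (H : Set G) := ⟨hPK x.2, hxNG⟩
  rw [h.cl g] at h3
  exact h3

lemma Ext.le_normalizer [Finite G] (h : Ext H) {P : Subgroup G} (hP : IsPGroup 2 P) (hHP : H ≤ P) :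
    P ≤ Subgroup.normalizer (H : Set G) := by
  intro g hg
  have hK : H ⊔ cj g H ≤ P := by
    refine sup_le hHP ?_
    rintro _ ⟨a, ha, rfl⟩
    exact P.mul_mem (P.mul_mem hg (hHP ha)) (P.inv_mem hg)
  have h1 := h.max g le_rfl (hP.to_le hK) le_sup_left
  apply Cfsg.Agent.Lib.Coprime.Three.mem_normalizer_of_conj_mem
  intro v hv
  rw [← h1]
  exact Subgroup.mem_sup_right ⟨v, hv, rfl⟩

lemma Ext.closure (h : Ext H) {a g : G} (ha : a ∈ H) (hn : g * a * g⁻¹ ∈ Subgroup.normalizer (H : Set G)) :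
    g * a * g⁻¹ ∈ H := by
  rw [← h.cl g]
  exact ⟨Subgroup.mem_sup_right ⟨a, ha, rfl⟩, hn⟩

lemma Ext.mem_of_conj_mem [Finite G] (h : Ext H) {P : Subgroup G} (hP : IsPGroup 2 P) (hHP : H ≤ P) {c x : G}
    (hc : c ∈ cj x H) (hcP : c ∈ P) : c ∈ H := by
  obtain ⟨a, ha, rfl⟩ := hc
  exact h.closure ha (h.le_normalizer hP hHP hcP)

/-- Burnside's transfer theorem for a group with an abelian Sylow `2`-subgroup. -/
lemma burnside_gen {K : Type u} [Group K] [Finite K] (P : Sylow 2 K)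
    (hN : Subgroup.normalizer ((P : Subgroup K) : Set K) ≤ Subgroup.centralizer ((P : Subgroup K) : Set K))
    (hcomm : ∀ a ∈ (P : Subgroup K), ∀ b ∈ (P : Subgroup K), a * b = b * a) :
    ∃ R : Subgroup K, R.Normal ∧ Odd (Nat.card R) ∧ (∀ l l' : K, l * l' * l⁻¹ * l'⁻¹ ∈ R) ∧
      (∀ l : K, ∃ q ∈ R, ∃ t ∈ (P : Subgroup K), l = q * t) := by
  classical
  haveI : Fact (Nat.Prime 2) := ⟨Nat.prime_two⟩
  have hc := MonoidHom.ker_transferSylow_isComplement' P hN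
  have hodd : ¬ 2 ∣ Nat.card (MonoidHom.transferSylow P hN).ker := MonoidHom.not_dvd_card_ker_transferSylow P hN
  refine ⟨(MonoidHom.transferSylow P hN).ker, inferInstance, Nat.odd_iff.2 (by omega), ?_, ?_⟩
  · intro l l'
    rw [MonoidHom.mem_ker]
    simp only [map_mul, map_inv]
    have h1 : MonoidHom.transferSylow P hN l * MonoidHom.transferSylow P hN l' =
        MonoidHom.transferSylow P hN l' * MonoidHom.transferSylow P hN l :=
      Subtype.ext (hcomm _ (MonoidHom.transferSylow P hN l).2 _ (MonoidHom.transferSylow P hN l').2)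
    rw [h1]
    group
  · intro l
    obtain ⟨⟨q, t⟩, hqt, -⟩ := hc.existsUnique l
    exact ⟨q, q.2, t, t.2, hqt.symm⟩

/-- `H` is a Sylow subgroup of `⟨H, H^g⟩`. -/
lemma Ext.exists_sylow [Finite G] (h : Ext H) (g : G) :
    ∃ P : Sylow 2 ↥(H ⊔ cj g H), (P : Subgroup ↥(H ⊔ cj g H)) = H.subgroupOf (H ⊔ cj g H) := by
  haveI : Fact (Nat.Prime 2) := ⟨Nat.prime_two⟩
  refine ⟨{ toSubgroup := H.subgroupOf (H ⊔ cj g H)
            isPGroup' := h.two.comap_of_injective (H ⊔ cj g H).subtype (H ⊔ cj g H).subtype_injective |>.to_le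
              (fun x hx => hx)
            is_maximal' := ?_ }, rfl⟩
  intro Q hQ hle
  have hQm : IsPGroup 2 (Q.map (H ⊔ cj g H).subtype) := hQ.map (H ⊔ cj g H).subtype
  have hmK : Q.map (H ⊔ cj g H).subtype ≤ H ⊔ cj g H := by
    rintro _ ⟨x, -, rfl⟩
    exact x.2
  have hHm : H ≤ Q.map (H ⊔ cj g H).subtype := by
    intro a ha
    have haK : a ∈ H ⊔ cj g H := Subgroup.mem_sup_left ha
    exact ⟨⟨a, haK⟩, hle ha, rfl⟩
  have he := h.max g hmK hQm hHm
  apply le_antisymm _ hle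
  intro x hx
  have : (x : G) ∈ Q.map (H ⊔ cj g H).subtype := ⟨x, hx, rfl⟩
  rw [he] at this
  exact this

/-- Burnside's transfer theorem in `⟨H, H^g⟩`. -/
lemma Ext.burnside [Finite G] (h : Ext H) (g : G) : ∃ Q : Subgroup G, Q ≤ H ⊔ cj g H ∧ Odd (Nat.card Q) ∧
    (∀ l ∈ H ⊔ cj g H, ∀ q ∈ Q, l * q * l⁻¹ ∈ Q) ∧
    (∀ l ∈ H ⊔ cj g H, ∀ l' ∈ H ⊔ cj g H, l * l' * l⁻¹ * l'⁻¹ ∈ Q) ∧
    (∀ l ∈ H ⊔ cj g H, ∃ q ∈ Q, ∃ t ∈ H, l = q * t) := by
  classical
  obtain ⟨P, hPe⟩ := h.exists_sylow g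
  have hN : Subgroup.normalizer ((P : Subgroup ↥(H ⊔ cj g H)) : Set ↥(H ⊔ cj g H)) ≤
      Subgroup.centralizer ((P : Subgroup ↥(H ⊔ cj g H)) : Set ↥(H ⊔ cj g H)) := by
    rw [hPe]
    intro x hx
    have hxN : (x : G) ∈ Subgroup.normalizer (H : Set G) := by
      rw [Subgroup.mem_normalizer_iff]
      intro y
      constructor
      · intro hy
        have hyK : y ∈ H ⊔ cj g H := Subgroup.mem_sup_left hy
        exact (Subgroup.mem_normalizer_iff.1 hx ⟨y, hyK⟩).1 hy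
      · intro hy
        have hyK : y ∈ H ⊔ cj g H := by
          have h2 : y = (x : G)⁻¹ * ((x : G) * y * (x : G)⁻¹) * x := by group
          rw [h2]
          exact Subgroup.mul_mem _ (Subgroup.mul_mem _ (Subgroup.inv_mem _ x.2) (Subgroup.mem_sup_left hy)) x.2
        exact (Subgroup.mem_normalizer_iff.1 hx ⟨y, hyK⟩).2 hy
    have hxH : (x : G) ∈ (H ⊔ cj g H) ⊓ Subgroup.normalizer (H : Set G) := ⟨x.2, hxN⟩
    rw [h.cl g] at hxH
    rw [Subgroup.mem_centralizer_iff]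
    intro y hy
    exact Subtype.ext (h.comm _ hy _ hxH)
  have hcomm : ∀ a ∈ (P : Subgroup ↥(H ⊔ cj g H)), ∀ b ∈ (P : Subgroup ↥(H ⊔ cj g H)), a * b = b * a := by
    rw [hPe]
    intro a ha b hb
    exact Subtype.ext (h.comm _ ha _ hb)
  obtain ⟨R, hRn, hRo, hRc, hRs⟩ := burnside_gen P hN hcomm
  rw [hPe] at hRs
  refine ⟨R.map (H ⊔ cj g H).subtype, ?_, ?_, ?_, ?_, ?_⟩
  · rintro _ ⟨x, -, rfl⟩
    exact x.2
  · rw [Subgroup.card_map_of_injective (H ⊔ cj g H).subtype_injective]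
    exact hRo
  · rintro l hl _ ⟨q, hq, rfl⟩
    exact ⟨⟨l, hl⟩ * q * (⟨l, hl⟩ : ↥(H ⊔ cj g H))⁻¹, hRn.conj_mem q hq ⟨l, hl⟩, rfl⟩
  · intro l hl l' hl'
    exact ⟨⟨l, hl⟩ * ⟨l', hl'⟩ * (⟨l, hl⟩ : ↥(H ⊔ cj g H))⁻¹ * (⟨l', hl'⟩ : ↥(H ⊔ cj g H))⁻¹, hRc _ _, rfl⟩
  · intro l hl
    obtain ⟨q, hq, t, ht, hqt⟩ := hRs ⟨l, hl⟩
    refine ⟨q, ⟨q, hq, rfl⟩, t, ht, ?_⟩
    exact congrArg Subtype.val hqt

/-- The nontrivial elements of conjugates of `H`. -/
def dset (H : Subgroup G) : Set G := {a | a ≠ 1 ∧ ∃ x : G, a ∈ cj x H}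

/-- Subgroups consisting of members of `dset` lie in a conjugate of `H`. -/
lemma Ext.le_conj [Finite G] (h : Ext H) {A : Subgroup G} (hA : ∀ a ∈ A, a ≠ 1 → a ∈ dset H) : ∃ x : G, A ≤ cj x H := by
  classical
  haveI : Fact (Nat.Prime 2) := ⟨Nat.prime_two⟩
  have hA2 : IsPGroup 2 A := by
    rw [isPGroup_iff_two]
    intro a ha
    by_cases ha1 : a = 1
    · exact ⟨0, by simp [ha1]⟩
    · obtain ⟨-, x, hx⟩ := hA a ha ha1
      exact isPGroup_iff_two.1 (h.conj x).two a hx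
  obtain ⟨P, hP⟩ := hA2.exists_le_sylow
  obtain ⟨T, hT⟩ := h.two.exists_le_sylow
  obtain ⟨y, rfl⟩ := MulAction.exists_smul_eq G T P
  have hyP : cj y H ≤ ((y • T : Sylow 2 G) : Subgroup G) := by
    rintro _ ⟨a, ha, rfl⟩
    exact ⟨a, hT ha, rfl⟩
  refine ⟨y, fun a ha => ?_⟩
  by_cases ha1 : a = 1
  · rw [ha1]; exact Subgroup.one_mem _
  · obtain ⟨-, z, hz⟩ := hA a ha ha1
    have hz' : a ∈ cj (z * y⁻¹) (cj y H) := by
      rw [cj_cj]
      simpa using hz
    exact (h.conj y).mem_of_conj_mem (Sylow.isPGroup' _) hyP hz' (hP ha)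

/-- `dset H` satisfies the hypothesis. -/
theorem Ext.hyp [Finite G] (h : Ext H) : Hyp (dset H) where
  conj_mem := by
    rintro a ⟨ha1, x, hx⟩ g
    refine ⟨?_, g * x, ?_⟩
    · intro h1
      apply ha1
      have h2 : a = g⁻¹ * (g * a * g⁻¹) * g := by group
      rw [h2, h1]
      group
    · rw [← cj_cj]
      exact conj_mem_cj hx
  pow_mem := by
    rintro a ⟨ha1, x, hx⟩ k hk
    exact ⟨hk, x, Subgroup.pow_mem _ hx k⟩
  one_not := fun h1 => h1.1 rfl
  two := by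
    rintro a ⟨ha1, x, hx⟩
    exact isPGroup_iff_two.1 (h.conj x).two a hx
  pair := by
    intro A B hAc hA hBc hB
    obtain ⟨x, hx⟩ := h.le_conj hA
    obtain ⟨y, hy⟩ := h.le_conj hB
    have h₁ := h.conj x
    set g := y * x⁻¹ with hg
    have hcg : cj g (cj x H) = cj y H := by
      rw [cj_cj, hg]
      simp
    obtain ⟨Q, hQK, hQo, hQn, hQc, -⟩ := h₁.burnside g
    rw [hcg] at hQK hQn hQc
    have hLK : A ⊔ B ≤ cj x H ⊔ cj y H := sup_le_sup hx hy
    refine ⟨(A ⊔ B) ⊓ Q, inf_le_left, hQo.of_dvd_nat (Subgroup.card_dvd_of_le inf_le_right), ?_, ?_, ?_⟩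
    · rintro l hl q ⟨hq1, hq2⟩
      exact ⟨(A ⊔ B).mul_mem ((A ⊔ B).mul_mem hl hq1) ((A ⊔ B).inv_mem hl), hQn l (hLK hl) q hq2⟩
    · intro l hl l' hl'
      refine ⟨?_, hQc l (hLK hl) l' (hLK hl')⟩
      exact (A ⊔ B).mul_mem ((A ⊔ B).mul_mem ((A ⊔ B).mul_mem hl hl') ((A ⊔ B).inv_mem hl)) ((A ⊔ B).inv_mem hl')
    · intro l hl hl1 hl2
      have hmax : ∀ P : Subgroup G, P ≤ cj x H ⊔ cj y H → IsPGroup 2 P → cj x H ≤ P → P = cj x H := by
        intro P h1 h2 h3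
        rw [← hcg] at h1
        exact h₁.max g h1 h2 h3
      obtain ⟨k, hk, hkl⟩ := exists_conj_mem_of_max le_sup_left h₁.two hmax (hLK hl) hl2
      refine ⟨hl1, k⁻¹ * x, ?_⟩
      rw [← cj_cj]
      have : l = k⁻¹ * (k * l * k⁻¹) * k⁻¹⁻¹ := by group
      rw [this]
      exact conj_mem_cj hkl

/-- **The theorem.** -/
theorem Ext.final [Finite G] (h : Ext H) : Subgroup.normalizer (H : Set G) ⊔ oddCore G = ⊤ := by
  classical
  haveI : Fact (Nat.Prime 2) := ⟨Nat.prime_two⟩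
  haveI hOn : (oddCore G).Normal := Cfsg.Agent.Lib.Basic.PCore.pPrimeCore_normal 2 G
  have hOodd : Odd (Nat.card (oddCore G)) :=
    Nat.coprime_two_right.1 (Cfsg.Agent.Lib.Components.Transport.coprime_card_pPrimeCore (G := G) 2)
  have hC := t_theorem h.hyp
  have h2H := isPGroup_iff_two.1 h.two
  have hsub : ∀ g : G, cj g H ≤ H ⊔ oddCore G := by
    intro g b hb
    obtain ⟨Q, hQK, hQo, hQn, hQc, hsplit⟩ := h.burnside g
    obtain ⟨q, hq, t, ht, rfl⟩ := hsplit b (Subgroup.mem_sup_right hb)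
    have hq' : q = q * t * t⁻¹ := by group
    have hb2 := isPGroup_iff_two.1 (h.conj g).two _ hb
    have ht2 := h2H t ht
    have hc : (q * t) * t * (q * t)⁻¹ * t⁻¹ ∈ oddCore G := by
      by_cases hb1 : q * t = 1
      · rw [hb1]
        simp
      by_cases ht1 : t = 1
      · rw [ht1]
        simp
      · exact hC _ ⟨hb1, g, hb⟩ _ ⟨ht1, 1, by rw [cj_one]; exact ht⟩
    have ho : Odd (orderOf ((q * t) * t⁻¹)) := by
      rw [← hq']
      exact odd_orderOf_of_mem hQo hq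
    have h3 := mem_of_odd_of_two (oddCore G) hb2 ht2 hc ho
    rw [← hq'] at h3
    exact Subgroup.mul_mem _ (Subgroup.mem_sup_right h3) (Subgroup.mem_sup_left ht)
  have hmax : ∀ P : Subgroup G, P ≤ H ⊔ oddCore G → IsPGroup 2 P → H ≤ P → P = H := by
    intro P hP hP2 hHP
    apply le_antisymm _ hHP
    intro p hp
    have h1 : p ∈ ((H ⊔ oddCore G : Subgroup G) : Set G) := hP hp
    rw [Subgroup.mul_normal] at h1
    obtain ⟨a, ha, o, ho, hao⟩ := Set.mem_mul.1 h1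
    have hoP : o ∈ P := by
      have : o = a⁻¹ * p := by rw [← hao]; group
      rw [this]
      exact P.mul_mem (P.inv_mem (hHP ha)) hp
    have ho1 : o = 1 := inter_eq_one hP2 hOodd hoP ho
    rw [← hao, ho1, mul_one]
    exact ha
  rw [eq_top_iff]
  intro g _
  obtain ⟨l, hl, hlb⟩ := exists_conj_le_of_max le_sup_left h.two hmax (hsub g) (h.conj g).two
  have hn : l * g ∈ Subgroup.normalizer (H : Set G) := by
    apply Cfsg.Agent.Lib.Coprime.Three.mem_normalizer_of_conj_mem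
    intro v hv
    have h1 := hlb _ (conj_mem_cj (g := g) hv)
    have h2 : l * g * v * (l * g)⁻¹ = l * (g * v * g⁻¹) * l⁻¹ := by group
    rw [h2]
    exact h1
  have hlN : l ∈ Subgroup.normalizer (H : Set G) ⊔ oddCore G :=
    (sup_le_sup_right (Subgroup.le_normalizer) _) hl
  have : g = l⁻¹ * (l * g) := by group
  rw [this]
  exact Subgroup.mul_mem _ (Subgroup.inv_mem _ hlN) (Subgroup.mem_sup_left hn)

end Cfsg.Agent.Lib.ExtClosed
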